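/-
Coset enumeration certificate: the assembled result.
-/
import Cfsg.Agent.Lib.Spor.TC.Steps
import Cfsg.Agent.Lib.Spor.Fi23.Rels
import Cfsg.Agent.Lib.Spor.Fi23.CG.Part0
import Cfsg.Agent.Lib.Spor.Fi23.CG.Part1
import Cfsg.Agent.Lib.Spor.Fi23.CG.Part2
import Cfsg.Agent.Lib.Spor.Fi23.CG.Part3
import Cfsg.Agent.Lib.Spor.Fi23.CG.Part4
import Cfsg.Agent.Lib.Spor.Fi23.CG.Part5
import Cfsg.Agent.Lib.Spor.Fi23.CG.Part6
import Cfsg.Agent.Lib.Spor.Fi23.CG.Part7
import Cfsg.Agent.Lib.Spor.Fi23.CG.Part8
import Cfsg.Agent.Lib.Spor.Fi23.CG.Part9
import Cfsg.Agent.Lib.Spor.Fi23.CG.Part10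
import Cfsg.Agent.Lib.Spor.Fi23.CG.Part11
import Cfsg.Agent.Lib.Spor.Fi23.CG.Part12
import Cfsg.Agent.Lib.Spor.Fi23.CG.Part13
import Cfsg.Agent.Lib.Spor.Fi23.CG.Part14
import Cfsg.Agent.Lib.Spor.Fi23.CG.Part15
import Cfsg.Agent.Lib.Spor.Fi23.CG.Part16
import Cfsg.Agent.Lib.Spor.Fi23.CG.Part17
import Cfsg.Agent.Lib.Spor.Fi23.CG.Part18
import Cfsg.Agent.Lib.Spor.Fi23.CG.Part19
import Cfsg.Agent.Lib.Spor.Fi23.CG.Part20
import Cfsg.Agent.Lib.Spor.Fi23.CG.Part21
import Cfsg.Agent.Lib.Spor.Fi23.CG.Part22
import Cfsg.Agent.Lib.Spor.Fi23.CG.Part23
import Cfsg.Agent.Lib.Spor.Fi23.CG.Part24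
import Cfsg.Agent.Lib.Spor.Fi23.CG.Part25
import Cfsg.Agent.Lib.Spor.Fi23.CG.Part26
import Cfsg.Agent.Lib.Spor.Fi23.CG.Part27
import Cfsg.Agent.Lib.Spor.Fi23.CG.Part28
import Cfsg.Agent.Lib.Spor.Fi23.CG.Part29
import Cfsg.Agent.Lib.Spor.Fi23.CG.Part30
import Cfsg.Agent.Lib.Spor.Fi23.CG.Part31
import Cfsg.Agent.Lib.Spor.Fi23.CG.Part32
import Cfsg.Agent.Lib.Spor.Fi23.CG.Part33
import Cfsg.Agent.Lib.Spor.Fi23.CG.Part34

namespace CfsgLib.Spor.Fi23.CG

open CfsgLib.Spor.TC

theorem steps_ok : cert.StepsOK 0 209894 :=
  ((((((((((((((((((((((((((((((((((((((((((((((((((((((((((((((((((((((((steps0.append _ steps2799).append _ steps5615).append _ steps8456).append _ steps11296).append _ steps14141).append _ steps17013).append _ steps19903).append _ steps22782).append _ steps25676).append _ steps28620).append _ steps31498).append _ steps34537).append _ steps37410).append _ steps40291).append _ steps43355).append _ steps46264).append _ steps49177).append _ steps52162).append _ steps55249).append _ steps58124).append _ steps61056).append _ steps63993).append _ steps67148).append _ steps70025).append _ steps72988).append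 _ steps75923).append _ steps78916).append _ steps81953).append _ steps84834).append _ steps87798).append _ steps90738).append _ steps93824).append _ steps97249).append _ steps100674).append _ steps104138).append _ steps107632).append _ steps110728).append _ steps113511).append _ steps116329).append _ steps119150).append _ steps122035).append _ steps124836).append _ steps127632).append _ steps130466).append _ steps133331).append _ steps136154).append _ steps138935).append _ steps141770).append _ steps144636).append _ steps147443).append _ steps150228).append _ steps153056).append _ steps155913).append _ steps158676).append _ steps161505).append _ steps164344).append _ steps167090).append _ steps169978).append _ steps172765).append _ steps175646).append _ steps178449).append _ steps181321).append _ steps184131).append _ steps186979).append _ steps189820).append _ steps192645).append _ steps195466).append _ steps198274).append _ steps201066).append _ steps203870).append _ steps206648).append _ steps209404)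

theorem rows_ok : cert.RowsOK 209894 31671 0 31671 :=
  ((((((((((((((((((((((((((((((rows0.append _ rows1053).append _ rows2106).append _ rows3159).append _ rows4212).append _ rows5265).append _ rows6318).append _ rows7371).append _ rows8424).append _ rows9477).append _ rows10530).append _ rows11583).append _ rows12636).append _ rows13689).append _ rows14742).append _ rows15795).append _ rows16848).append _ rows17901).append _ rows18954).append _ rows20007).append _ rows21060).append _ rows22113).append _ rows23166).append _ rows24219).append _ rows25272).append _ rows26325).append _ rows27378).append _ rows28431).append _ rows29484).append _ rows30537).append _ rows31590)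

theorem row_zero : cert.rowNode 0 = 0 := by decide +kernel

/-- The certificate, for the relators as powers of words. -/
noncomputable def cosetCert : CosetCert 10 relsG [0, 1, 2, 3, 4, 5, 6, 8, 9] 31671 :=
  ⟨cert, 209894, steps_ok, rows_ok, row_zero, by decide, rfl, by decide +kernel, by decide +kernel⟩

end CfsgLib.Spor.Fi23.CG
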